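import Groth.Agent.H11QMap.FTGen
import Groth.Agent.H10Coh.SheafHom.Adj
import Groth.Agent.H29Ref.ClassMap
import Groth.Agent.H10Coh.QcqsPush
import Groth.Agent.H10Coh.TensorBasics
import Groth.Agent.H8Props.FinLocFree.Sheaf
import Groth.Agent.H16Derived.KFlat.FinLocFree
import Groth.Agent.H22Alg.ExtPowSum
import Groth.Prelude.Def_PerfAux
import Groth.Prelude.Def_KoszTw

/-!
# Surjections from box products of bundles
-/

set_option autoImplicit false
set_option linter.style.haveILetI false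
set_option maxHeartbeats 1000000

noncomputable section

universe u

open CategoryTheory CategoryTheory.Limits AlgebraicGeometry Opposite TopologicalSpace
open Groth.Agent

namespace Groth.Agent.H02CA.BoxRes

variable {P X Y : Scheme.{u}}

theorem epi_of_surjective_stalkMapₗ {F G : P.Modules} (φ : F ⟶ G)
    (h : ∀ x, Function.Surjective (RefHull.stalkMapₗ φ x)) : Epi φ := by
  refine H11Tilde.epi_of_locally_surjective φ fun W t x hx => ?_
  obtain ⟨v, hv⟩ := h x (G.presheaf.germ W x hx t)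
  obtain ⟨O, hxO, s, rfl⟩ := TopCat.Presheaf.exists_germ_eq F.presheaf v
  rw [RefHull.stalkMapₗ_germ] at hv
  obtain ⟨V, hxV, iO, iW, he⟩ := TopCat.Presheaf.germ_eq G.presheaf x hxO hx _ _ hv
  exact ⟨V, iW.le, hxV, F.presheaf.map (homOfLE iO.le).op s, (H11Tilde.app_map_apply φ iO.le s).trans he⟩

theorem surjective_stalkMapₗ_of_epi {F G : P.Modules} (φ : F ⟶ G) [Epi φ] (x : P) :
    Function.Surjective (RefHull.stalkMapₗ φ x) := by
  let Φ := DerSch.stalkFunctor P x
  haveI : Epi (Φ.map φ) := Φ.map_epi φ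
  exact (ModuleCat.epi_iff_surjective (Φ.map φ)).1 inferInstance

/-- A bundle on `Y` with a map to `F` on `W` which is onto on stalks. -/
theorem exists_bundle_hom [CompactSpace Y] [QuasiSeparatedSpace Y] (hY : PerfAux.HasResolutionProperty Y)
    (q : P ⟶ Y) [QuasiCompact q] [QuasiSeparated q] (W : P.Opens) [QuasiCompact W.ι]
    (hW : ∀ V : Y.Opens, IsAffineOpen V → IsAffineOpen (W ⊓ q ⁻¹ᵁ V))
    (F : P.Modules) (hF : Coh.IsQCoh F) (hF' : CohB1.IsFT F) :
    ∃ (G : Y.Modules) (_ : FlatMod.IsFinLocFree G)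
      (f : Γ(RefHull.homSh ((Scheme.Modules.pullback q).obj G) F, W)),
      ∀ x : W, Function.Surjective (f.1 x) := by
  classical
  haveI : F.IsQuasicoherent := hF
  haveI := Scheme.Modules.isQuasicoherent_restrictFunctor W.ι F
  let Q := (Scheme.Modules.pushforward W.ι).obj ((Scheme.Modules.restrictFunctor W.ι).obj F)
  haveI : Q.IsQuasicoherent := H10Coh.isQuasicoherent_pushforward W.ι _
  haveI := H10Coh.isQuasicoherent_pushforward q Q
  let η : F ⟶ Q := (Scheme.Modules.restrictAdjunction W.ι).unit.app F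
  have heq : ∀ O : P.Opens, W.ι ''ᵁ (W.ι ⁻¹ᵁ O) = W ⊓ O := fun O => by
    rw [Scheme.Hom.image_preimage_eq_opensRange_inf, Scheme.Opens.opensRange_ι]
  have hη : ∀ O : P.Opens, O ≤ W → Function.Bijective (η.app O) := fun O hO => by
    have hge : O ≤ W.ι ''ᵁ (W.ι ⁻¹ᵁ O) := le_of_le_of_eq (le_inf hO le_rfl) (heq O).symm
    constructor
    · intro a b h
      have h' := congrArg (F.presheaf.map (homOfLE hge).op) h
      change F.presheaf.map (homOfLE hge).op (F.presheaf.map (homOfLE (W.ι.image_preimage_le O)).op a) =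
        F.presheaf.map (homOfLE hge).op (F.presheaf.map (homOfLE (W.ι.image_preimage_le O)).op b) at h'
      rwa [H10Coh.mres_mres, H10Coh.mres_mres, H10Coh.mres_self, H10Coh.mres_self] at h'
    · intro b
      refine ⟨F.presheaf.map (homOfLE hge).op b, ?_⟩
      change F.presheaf.map (homOfLE (W.ι.image_preimage_le O)).op (F.presheaf.map (homOfLE hge).op b) = b
      rw [H10Coh.mres_mres, H10Coh.mres_self]
  have hb : ∀ x : W, Function.Bijective (RefHull.stalkMapₗ η x.1) := fun x => by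
    refine ⟨(injective_iff_map_eq_zero _).2 fun v hv => ?_, fun v => ?_⟩
    · obtain ⟨O, hxO, s, rfl⟩ := TopCat.Presheaf.exists_germ_eq F.presheaf v
      rw [RefHull.stalkMapₗ_germ, ← map_zero (Q.presheaf.germ O x.1 hxO).hom] at hv
      obtain ⟨V, hxV, iO, iO', he⟩ := TopCat.Presheaf.germ_eq Q.presheaf x.1 hxO hxO _ _ hv
      rw [map_zero] at he
      have h0 : F.presheaf.map (homOfLE ((inf_le_left : V ⊓ W ≤ V).trans iO.le)).op s = 0 := by
        refine (hη _ inf_le_right).1 ?_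
        rw [map_zero, H11Tilde.app_map_apply, ← H10Coh.mres_mres Q iO.le inf_le_left]
        exact (congrArg _ he).trans (map_zero _)
      rw [← F.presheaf.germ_res_apply (homOfLE ((inf_le_left : V ⊓ W ≤ V).trans iO.le)) x.1 ⟨hxV, x.2⟩, h0,
        map_zero]
    · obtain ⟨O, hxO, t, rfl⟩ := TopCat.Presheaf.exists_germ_eq Q.presheaf v
      obtain ⟨s, hs⟩ := (hη _ (inf_le_right : O ⊓ W ≤ W)).2 (Q.presheaf.map (homOfLE inf_le_left).op t)
      refine ⟨F.presheaf.germ (O ⊓ W) x.1 ⟨hxO, x.2⟩ s, ?_⟩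
      rw [RefHull.stalkMapₗ_germ, hs, Q.presheaf.germ_res_apply]
  -- the generators
  choose V hV hxV using fun y : Y => exists_isAffineOpen_mem_and_subset (X := Y) (x := y) (U := ⊤) trivial
  obtain ⟨T, hT⟩ := CompactSpace.elim_nhds_subcover (fun y => (V y : Set Y))
    (fun y => (V y).isOpen.mem_nhds (hxV y).1)
  choose card m hm using fun y => Submodule.fg_iff_exists_fin_generating_family.1
    (H10Coh.finite_sections F hF' (hW (V y) (hV y))).fg_top
  let sec : ∀ y, Fin (card y) → Γ((Scheme.Modules.pushforward q).obj Q, V y) := fun y i =>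
    F.presheaf.map (homOfLE (heq (q ⁻¹ᵁ V y)).le).op (m y i)
  let l : List (Σ U : Y.affineOpens, Γ((Scheme.Modules.pushforward q).obj Q, U.1)) :=
    T.toList.flatMap fun y => (List.finRange (card y)).map fun i => ⟨⟨V y, hV y⟩, sec y i⟩
  obtain ⟨G₁, hG₁q, hG₁f, v, -, hmem⟩ := H11QMap.exists_ft_submodule ((Scheme.Modules.pushforward q).obj Q)
    inferInstance l
  obtain ⟨G, π, hG, hπ⟩ := hY G₁ hG₁q hG₁f
  haveI := hπ
  haveI : (Scheme.Modules.pullback q).IsLeftAdjoint :=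
    (Scheme.Modules.pullbackPushforwardAdjunction q).isLeftAdjoint
  let φ₁ := ((Scheme.Modules.pullbackPushforwardAdjunction q).homEquiv G₁ Q).symm v
  let φ := (Scheme.Modules.pullback q).map π ≫ φ₁
  have hv : ∀ (U : Y.Opens) (s : Γ(G₁, U)), φ₁.app (q ⁻¹ᵁ U) (OmegaSh.pullSect q G₁ U s) =
      (show Γ(Q, q ⁻¹ᵁ U) from v.app U s) := fun U s =>
    congr($(congrArg (fun k => Scheme.Modules.Hom.app k U)
      (((Scheme.Modules.pullbackPushforwardAdjunction q).homEquiv_unit (f := φ₁)).symm.trans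
        (((Scheme.Modules.pullbackPushforwardAdjunction q).homEquiv G₁ Q).apply_symm_apply v))) s)
  have hsurj : ∀ x : W, Function.Surjective (RefHull.stalkMapₗ φ x.1) := fun x => by
    suffices hs : Function.Surjective (RefHull.stalkMapₗ φ₁ x.1) by
      intro t
      obtain ⟨w, rfl⟩ := hs t
      obtain ⟨w', rfl⟩ := surjective_stalkMapₗ_of_epi ((Scheme.Modules.pullback q).map π) x.1 w
      exact ⟨w', H29Ref.stalkMapₗ_comp_apply _ _ _ _⟩
    obtain ⟨y, hy, hxy⟩ := Set.mem_iUnion₂.1 (hT.ge (Set.mem_univ (q x.1)))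
    have hspan := H29Ref.span_germ_affine F hF (hW (V y) (hV y)) (m y) (hm y) ⟨x.1, x.2, hxy⟩
    intro t
    obtain ⟨s, rfl⟩ := (hb x).2 t
    have hs : s ∈ (LinearMap.range (RefHull.stalkMapₗ φ₁ x.1)).comap (RefHull.stalkMapₗ η x.1) := by
      suffices htop : ⊤ ≤ (LinearMap.range (RefHull.stalkMapₗ φ₁ x.1)).comap (RefHull.stalkMapₗ η x.1) from
        htop Submodule.mem_top
      rw [← hspan]
      refine Submodule.span_le.2 ?_
      rintro _ ⟨i, rfl⟩
      obtain ⟨a, ha⟩ := hmem ⟨⟨V y, hV y⟩, sec y i⟩ (List.mem_flatMap.2 ⟨y, Finset.mem_toList.2 hy,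
        List.mem_map.2 ⟨i, List.mem_finRange i, rfl⟩⟩)
      refine ⟨((Scheme.Modules.pullback q).obj G₁).presheaf.germ _ x.1 hxy (OmegaSh.pullSect q G₁ (V y) a), ?_⟩
      show RefHull.stalkMapₗ φ₁ x.1 _ = RefHull.stalkMapₗ η x.1 _
      rw [RefHull.stalkMapₗ_germ, RefHull.stalkMapₗ_germ, hv,
        ← Q.presheaf.germ_res_apply (homOfLE (inf_le_right : W ⊓ q ⁻¹ᵁ V y ≤ q ⁻¹ᵁ V y)) x.1 ⟨x.2, hxy⟩]
      refine congrArg _ ((congrArg _ ha).trans ?_)
      change F.presheaf.map (homOfLE (W.ι.image_mono (W.ι.preimage_mono inf_le_right))).op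
        (F.presheaf.map (homOfLE (heq (q ⁻¹ᵁ V y)).le).op (m y i)) =
          F.presheaf.map (homOfLE (W.ι.image_preimage_le _)).op (m y i)
      rw [H10Coh.mres_mres]
    exact hs
  let e := fun x : W => LinearEquiv.ofBijective (RefHull.stalkMapₗ η x.1) (hb x)
  have hloc : RefHull.IsLocSect ((Scheme.Modules.pullback q).obj G) F
      fun x : W => (e x).symm.toLinearMap.comp (RefHull.stalkMapₗ φ x.1) := fun V' i s x => by
    obtain ⟨t, ht⟩ := (hη V' i.le).2 (φ.app V' s)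
    refine ⟨V', x.2, 𝟙 V', t, fun y => ?_⟩
    refine (e ⟨y.1, i.le y.2⟩).injective ?_
    refine ((e ⟨y.1, i.le y.2⟩).apply_symm_apply _).trans ?_
    show RefHull.stalkMapₗ φ y.1 _ = RefHull.stalkMapₗ η y.1 _
    rw [RefHull.stalkMapₗ_germ, RefHull.stalkMapₗ_germ, ht]
  refine ⟨G, hG, (⟨fun x : W => (e x).symm.toLinearMap.comp (RefHull.stalkMapₗ φ x.1), hloc⟩ : Γ(RefHull.homSh ((Scheme.Modules.pullback q).obj G) F, W)), fun x t => ?_⟩
  obtain ⟨w, hw⟩ := hsurj x (e x t)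
  exact ⟨w, ((congrArg (e x).symm hw).trans ((e x).symm_apply_apply t) :)⟩

/-- The partner bundle on `X` for a section of the sheaf Hom over the inverse image of an affine open. -/
theorem exists_bundle_pairing [CompactSpace X] [QuasiSeparatedSpace X] (hX : PerfAux.HasResolutionProperty X)
    (p : P ⟶ X) [QuasiCompact p] [QuasiSeparated p] {U : X.Opens} (hU : IsAffineOpen U)
    (G F : P.Modules) (hG : CohB1.IsFP G) (hF : Coh.IsQCoh F)
    (f : Γ(RefHull.homSh G F, p ⁻¹ᵁ U)) (hf : ∀ x, Function.Surjective (f.1 x)) :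
    ∃ (E : X.Modules) (_ : FlatMod.IsFinLocFree E)
      (Θ : CohB1.tensorMod ((Scheme.Modules.pullback p).obj E) G ⟶ F),
      ∀ x : P, p x ∈ U → Function.Surjective (RefHull.stalkMapₗ Θ x) := by
  haveI : (RefHull.homSh G F).IsQuasicoherent := H29Ref.isQCoh_homSh G F hG hF
  haveI := H10Coh.isQuasicoherent_pushforward p (RefHull.homSh G F)
  obtain ⟨M, hMq, hMf, v, -, hmem⟩ := H11QMap.exists_ft_submodule
    ((Scheme.Modules.pushforward p).obj (RefHull.homSh G F)) inferInstance [⟨⟨U, hU⟩, f⟩]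
  obtain ⟨a, ha⟩ := hmem ⟨⟨U, hU⟩, f⟩ (List.mem_singleton.2 rfl)
  obtain ⟨E, π, hE, hπ⟩ := hX M hMq hMf
  haveI := hπ
  haveI : (Scheme.Modules.pullback p).IsLeftAdjoint :=
    (Scheme.Modules.pullbackPushforwardAdjunction p).isLeftAdjoint
  let φ₁ := ((Scheme.Modules.pullbackPushforwardAdjunction p).homEquiv M _).symm v
  let ψ : (Scheme.Modules.pullback p).obj E ⟶ RefHull.homSh G F := (Scheme.Modules.pullback p).map π ≫ φ₁
  have hv : φ₁.app (p ⁻¹ᵁ U) (OmegaSh.pullSect p M U a) = f :=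
    (congr($(congrArg (fun k => Scheme.Modules.Hom.app k U)
      (((Scheme.Modules.pullbackPushforwardAdjunction p).homEquiv_unit (f := φ₁)).symm.trans
        (((Scheme.Modules.pullbackPushforwardAdjunction p).homEquiv M _).apply_symm_apply v))) a)).trans ha
  let Θ := H10Coh.SheafHom.uncurry ψ
  refine ⟨E, hE, (H10Coh.Tw.commIso _ _).hom ≫ Θ, fun x hx t => ?_⟩
  suffices hs : ∃ w, RefHull.stalkMapₗ Θ x w = t by
    obtain ⟨w, rfl⟩ := hs
    obtain ⟨w', rfl⟩ := surjective_stalkMapₗ_of_epi (H10Coh.Tw.commIso ((Scheme.Modules.pullback p).obj E) G).hom x w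
    exact ⟨w', H29Ref.stalkMapₗ_comp_apply _ _ _ _⟩
  obtain ⟨b, rfl⟩ := hf ⟨x, hx⟩ t
  obtain ⟨w, hw⟩ := surjective_stalkMapₗ_of_epi ((Scheme.Modules.pullback p).map π) x
    (((Scheme.Modules.pullback p).obj M).presheaf.germ (p ⁻¹ᵁ U) x hx (OmegaSh.pullSect p M U a))
  obtain ⟨O, hxO, n, rfl⟩ := TopCat.Presheaf.exists_germ_eq ((Scheme.Modules.pullback p).obj E).presheaf w
  have h1 : (RefHull.homSh G F).presheaf.germ O x hxO (ψ.app O n) =
      (RefHull.homSh G F).presheaf.germ (p ⁻¹ᵁ U) x hx f := by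
    rw [← RefHull.stalkMapₗ_germ, H29Ref.stalkMapₗ_comp_apply, hw, RefHull.stalkMapₗ_germ, hv]
  have h2 := congrArg (RefHull.evalStalk G F x) h1
  rw [RefHull.evalStalk_germ, RefHull.evalStalk_germ] at h2
  have h3 : H10Coh.SheafHom.curry Θ = ψ := (H10Coh.SheafHom.homEquiv _ _ _).apply_symm_apply ψ
  rw [← h3, H10Coh.SheafHom.curry_app] at h2
  exact ⟨_, (H10Coh.SheafHom.curryFun_apply Θ O n ⟨x, hxO⟩ b).symm.trans (LinearMap.congr_fun h2 b)⟩

/-- Box products of bundles cover a module of finite type. -/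
theorem exists_box_epi [CompactSpace X] [QuasiSeparatedSpace X] [CompactSpace Y] [QuasiSeparatedSpace Y]
    (hX : PerfAux.HasResolutionProperty X) (hY : PerfAux.HasResolutionProperty Y)
    (p : P ⟶ X) (q : P ⟶ Y) [QuasiCompact p] [QuasiSeparated p] [QuasiCompact q] [QuasiSeparated q]
    (haff : ∀ (U : X.Opens) (V : Y.Opens), IsAffineOpen U → IsAffineOpen V → IsAffineOpen (p ⁻¹ᵁ U ⊓ q ⁻¹ᵁ V))
    (hqc : ∀ U : X.Opens, IsAffineOpen U → QuasiCompact (p ⁻¹ᵁ U).ι)
    (F : P.Modules) (hF : Coh.IsQCoh F) (hF' : CohB1.IsFT F) :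
    ∃ (E : X.Modules) (G : Y.Modules), FlatMod.IsFinLocFree E ∧ FlatMod.IsFinLocFree G ∧
      ∃ π : CohB1.tensorMod ((Scheme.Modules.pullback p).obj E) ((Scheme.Modules.pullback q).obj G) ⟶ F,
        Epi π := by
  classical
  choose U hU hxU using fun x : X => exists_isAffineOpen_mem_and_subset (X := X) (x := x) (U := ⊤) trivial
  obtain ⟨T, hT⟩ := CompactSpace.elim_nhds_subcover (fun x => (U x : Set X))
    (fun x => (U x).isOpen.mem_nhds (hxU x).1)
  let W : Fin T.card → X.Opens := fun i => U (T.equivFin.symm i).1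
  have hW : ∀ x, ∃ i, x ∈ W i := fun x => by
    obtain ⟨z, hz, hxz⟩ := Set.mem_iUnion₂.1 (hT.ge (Set.mem_univ x))
    exact ⟨T.equivFin ⟨z, hz⟩, by simpa [W] using hxz⟩
  have hdata : ∀ i, ∃ (E : X.Modules) (G : Y.Modules), FlatMod.IsFinLocFree E ∧ FlatMod.IsFinLocFree G ∧
      ∃ Θ : CohB1.tensorMod ((Scheme.Modules.pullback p).obj E) ((Scheme.Modules.pullback q).obj G) ⟶ F,
        ∀ x, p x ∈ W i → Function.Surjective (RefHull.stalkMapₗ Θ x) := fun i => by
    haveI := hqc (W i) (hU _)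
    obtain ⟨G, hG, f, hf⟩ := exists_bundle_hom hY q (p ⁻¹ᵁ W i) (fun V hV => haff _ V (hU _) hV) F hF hF'
    obtain ⟨E, hE, Θ, hΘ⟩ := exists_bundle_pairing hX p (hU _) _ F (H8Props.FinLocFree.isFP_of_isFinLocFree _
      (H16Derived.KFlat.Stalk.isFinLocFree_pullback q hG)) hF f hf
    exact ⟨E, G, hE, hG, Θ, hΘ⟩
  choose E G hE hG Θ hΘ using hdata
  let A := (Scheme.Modules.pullback p)
  let B := (Scheme.Modules.pullback q)
  refine ⟨⨁ E, ⨁ G, (H22Alg.ExtPowSum.finLocFree_biproduct E hE).1,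
    (H22Alg.ExtPowSum.finLocFree_biproduct G hG).1,
    ∑ i, KoszTw.tensorMap (A.map (biproduct.π E i)) (B.map (biproduct.π G i)) ≫ Θ i, ?_⟩
  haveI : A.Additive := inferInstance
  haveI : B.Additive := inferInstance
  refine epi_of_surjective_stalkMapₗ _ fun x t => ?_
  obtain ⟨i, hi⟩ := hW (p x)
  obtain ⟨w, rfl⟩ := hΘ i x hi t
  let j := KoszTw.tensorMap (A.map (biproduct.ι E i)) (B.map (biproduct.ι G i))
  have hj : j ≫ (∑ l, KoszTw.tensorMap (A.map (biproduct.π E l)) (B.map (biproduct.π G l)) ≫ Θ l) = Θ i := by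
    rw [Preadditive.comp_sum, Finset.sum_eq_single i]
    · rw [← Category.assoc, ← KoszTw.tensorMap_comp, ← Functor.map_comp, ← Functor.map_comp,
        biproduct.ι_π_self, biproduct.ι_π_self, A.map_id, B.map_id, KoszTw.tensorMap_id, Category.id_comp]
    · intro l _ hl
      rw [← Category.assoc, ← KoszTw.tensorMap_comp, ← Functor.map_comp, ← Functor.map_comp,
        biproduct.ι_π_ne E hl.symm, biproduct.ι_π_ne G hl.symm, A.map_zero, B.map_zero]
      rw [show KoszTw.tensorMap (0 : A.obj (E i) ⟶ A.obj (E l)) (0 : B.obj (G i) ⟶ B.obj (G l)) = 0 by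
        simp [KoszTw.tensorMap]
        exact zero_comp]
      exact zero_comp
    · exact fun h => (h (Finset.mem_univ _)).elim
  refine ⟨RefHull.stalkMapₗ j x w, ?_⟩
  rw [← H29Ref.stalkMapₗ_comp_apply, hj]

end Groth.Agent.H02CA.BoxRes
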